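import Groth.Agent.EtCore45.MVMain
import Groth.Agent.Cons51.LimConst
import Groth.Agent.Cons51.GabberEfface

/-!
Vanishing of cohomology of a constant sheaf from a cover by two opens and gluing of locally constant
functions.
-/

set_option autoImplicit false
set_option backward.isDefEq.respectTransparency.types false
universe u

open CategoryTheory CategoryTheory.Limits CategoryTheory.Abelian AlgebraicGeometry Opposite

namespace Groth.Agent.PBC51.P1

open Groth.Agent.EtCore45.MV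

variable {X : Scheme.{u}} (U V : X.Opens)

/-- A two-open cover with acyclic members and surjective difference of sections gives acyclicity. -/
theorem subsingleton_H_of_cover (hUV : U ⊔ V = ⊤) (F : EtCoh.Ab X)
    (hU : ∀ q, Subsingleton (EtCoh.H (U : Scheme.{u}) ((EtCoh.pull U.ι).obj F) (q + 1)))
    (hV : ∀ q, Subsingleton (EtCoh.H (V : Scheme.{u}) ((EtCoh.pull V.ι).obj F) (q + 1)))
    (hW : ∀ q, Subsingleton (EtCoh.H ((U ⊓ V : X.Opens) : Scheme.{u}) ((EtCoh.pull (U ⊓ V).ι).obj F) (q + 1)))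
    (hsurj : ∀ c : EtCoh.sect F (obj (U ⊓ V)), ∃ a b,
      F.obj.map (objHom (inf_le_left : U ⊓ V ≤ U)).op a - F.obj.map (objHom (inf_le_right : U ⊓ V ≤ V)).op b = c)
    (q : ℕ) : Subsingleton (EtCoh.H X F (q + 1)) := by
  have hS := seq_shortExact U V hUV
  have z : ∀ (U' : X.Opens) (n : ℕ), Subsingleton (EtCoh.H (U' : Scheme.{u}) ((EtCoh.pull U'.ι).obj F) n) →
      Subsingleton (Ext (P U'.ι) F n) := fun U' n h => (tr_bijective U'.ι F n).1.subsingleton
  refine subsingleton_of_forall_eq 0 fun x => ?_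
  have h0 : (Ext.mk₀ (seq U V).g).comp x (zero_add (q + 1)) = 0 :=
    Ext.biprod_ext ((z U (q + 1) (hU q)).elim _ _) ((z V (q + 1) (hV q)).elim _ _)
  obtain ⟨y, rfl⟩ := Ext.contravariant_sequence_exact₃ hS F x h0 (Nat.add_comm 1 q)
  rcases q with _ | q
  · obtain ⟨φ, rfl⟩ := (Ext.mk₀_bijective _ _).2 y
    obtain ⟨a, b, hab⟩ := hsurj (S (U ⊓ V).ι φ)
    obtain ⟨α, rfl⟩ := (S_bijective U.ι F).2 a
    obtain ⟨β, rfl⟩ := (S_bijective V.ι F).2 b
    have hφ : (seq U V).f ≫ biprod.desc α β = φ := by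
      refine (S_bijective (U ⊓ V).ι F).1 (Eq.trans ?_ hab)
      show S (U ⊓ V).ι (biprod.lift (aU U V) (-aV U V) ≫ biprod.desc α β) = _
      rw [biprod.lift_desc, Preadditive.neg_comp, ← sub_eq_add_neg]
      have hsub : ∀ p p' : P (U ⊓ V).ι ⟶ F, S (U ⊓ V).ι (p - p') = S (U ⊓ V).ι p - S (U ⊓ V).ι p' := by
        intro p p'
        let f : (P (U ⊓ V).ι ⟶ F) →+ EtCoh.sect F (obj (U ⊓ V)) := AddMonoidHom.mk' (S (U ⊓ V).ι) fun p p' => by
          simp only [S, sectOf, Functor.map_add, Preadditive.comp_add, oneSect_add, map_add]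
        exact f.map_sub p p'
      rw [hsub, S_aMap _ _ _ _ _ (objHom inf_le_left), S_aMap _ _ _ _ _ (objHom inf_le_right)]
    rw [← hφ, ← Ext.mk₀_comp_mk₀, ← Ext.comp_assoc _ _ _ (add_zero 1) (zero_add 0) (by omega),
      hS.extClass_comp, Ext.zero_comp]
    rfl
  · rw [(z (U ⊓ V) (q + 1) (hW q)).elim y 0]
    exact Ext.comp_zero _ _ _ _ _

variable (M : AddCommGrpCat.{u + 1})

/-- The same for locally constant functions. -/
theorem subsingleton_H_lc_of_cover (hUV : U ⊔ V = ⊤)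
    (hU : ∀ q, Subsingleton (EtCoh.H (U : Scheme.{u}) (Unr55.LC.lc M) (q + 1)))
    (hV : ∀ q, Subsingleton (EtCoh.H (V : Scheme.{u}) (Unr55.LC.lc M) (q + 1)))
    (hW : ∀ q, Subsingleton (EtCoh.H ((U ⊓ V : X.Opens) : Scheme.{u}) (Unr55.LC.lc M) (q + 1)))
    (hsurj : ∀ c : LocallyConstant ((U ⊓ V : X.Opens) : Scheme.{u}) M,
      ∃ (a : LocallyConstant (U : Scheme.{u}) M) (b : LocallyConstant (V : Scheme.{u}) M),
        ∀ x, a (X.homOfLE (inf_le_left : U ⊓ V ≤ U) x) - b (X.homOfLE (inf_le_right : U ⊓ V ≤ V) x) = c x)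
    (q : ℕ) : Subsingleton (EtCoh.H X (Unr55.LC.lc M) (q + 1)) := by
  let e : ∀ U' : X.Opens, (EtCoh.pull U'.ι).obj (Unr55.LC.lc M) ≅ Unr55.LC.lc M := fun U' =>
    (EtCoh.pull U'.ι).mapIso (Cons51.cstIsoLc M).symm ≪≫ (EtCore.pullConstIso U'.ι).app M ≪≫ Cons51.cstIsoLc M
  refine subsingleton_H_of_cover U V hUV _
    (fun q => have := hU q; Cons51.subsingleton_H_of_iso (e U).symm (q + 1))
    (fun q => have := hV q; Cons51.subsingleton_H_of_iso (e V).symm (q + 1))
    (fun q => have := hW q; Cons51.subsingleton_H_of_iso (e (U ⊓ V)).symm (q + 1)) (fun c => ?_) q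
  obtain ⟨a, b, h⟩ := hsurj c
  exact ⟨a, b, LocallyConstant.ext h⟩

end Groth.Agent.PBC51.P1
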