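import Groth.Agent.Cons51.IdemAIC

/-!
Two-chart covers over the projective line, and their base change along integral morphisms.
-/

set_option autoImplicit false
set_option backward.isDefEq.respectTransparency.types false
universe u

open CategoryTheory CategoryTheory.Limits AlgebraicGeometry Opposite
open Groth.Agent.Cons51

namespace Groth.Agent.PBC51.P1

variable {A : Type u} [CommRing A] {Y : Scheme.{u}}

/-- The scalars in the functions on an open. -/
noncomputable def cst (p : Y ⟶ Spec (CommRingCat.of A)) (U : Y.Opens) : A →+* Γ(Y, U) :=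
  (p.appLE ⊤ U (by rw [Scheme.Hom.preimage_top]; exact le_top)).hom.comp
    (Scheme.ΓSpecIso (CommRingCat.of A)).inv.hom

theorem res_cst (p : Y ⟶ Spec (CommRingCat.of A)) {U V : Y.Opens} (h : V ≤ U) (a : A) :
    Y.presheaf.map (homOfLE h).op (cst p U a) = cst p V a := by
  show ((p.appLE ⊤ U _) ≫ Y.presheaf.map (homOfLE h).op) ((Scheme.ΓSpecIso (CommRingCat.of A)).inv a) = _
  rw [Scheme.Hom.appLE_map]
  rfl

theorem app_cst (p : Y ⟶ Spec (CommRingCat.of A)) {Y' : Scheme.{u}} (g : Y' ⟶ Y) (U : Y.Opens) (a : A) :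
    g.app U (cst p U a) = cst (g ≫ p) (g ⁻¹ᵁ U) a := by
  show ((p.appLE ⊤ U _) ≫ g.app U) ((Scheme.ΓSpecIso (CommRingCat.of A)).inv a) = _
  rw [Scheme.Hom.app_eq_appLE, Scheme.Hom.appLE_comp_appLE]
  rfl

/-- A cover by two affine charts with coordinates inverse to each other on the overlap and functions
integral over polynomials in the coordinates. -/
structure Data (p : Y ⟶ Spec (CommRingCat.of A)) where
  Y0 : Y.Opens
  Y1 : Y.Opens
  affine0 : IsAffineOpen Y0
  affine1 : IsAffineOpen Y1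
  cover : Y0 ⊔ Y1 = ⊤
  t : Γ(Y, Y0)
  s : Γ(Y, Y1)
  inter0 : Y.basicOpen t = Y0 ⊓ Y1
  inter1 : Y.basicOpen s = Y0 ⊓ Y1
  mul_one' : Y.presheaf.map (homOfLE (inf_le_left : Y0 ⊓ Y1 ≤ Y0)).op t *
    Y.presheaf.map (homOfLE (inf_le_right : Y0 ⊓ Y1 ≤ Y1)).op s = 1
  int0 : (Polynomial.eval₂RingHom (cst p Y0) t).IsIntegral
  int1 : (Polynomial.eval₂RingHom (cst p Y1) s).IsIntegral

variable {p : Y ⟶ Spec (CommRingCat.of A)}

theorem Data.affine01 (D : Data p) : IsAffineOpen (D.Y0 ⊓ D.Y1) := D.inter0 ▸ D.affine0.basicOpen D.t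

/-- Pullback along an integral morphism. -/
noncomputable def Data.pull (D : Data p) {Y' : Scheme.{u}} (g : Y' ⟶ Y) [IsIntegralHom g] : Data (g ≫ p) where
  Y0 := g ⁻¹ᵁ D.Y0
  Y1 := g ⁻¹ᵁ D.Y1
  affine0 := D.affine0.preimage g
  affine1 := D.affine1.preimage g
  cover := top_le_iff.1 fun x _ => by
    have : g x ∈ D.Y0 ⊔ D.Y1 := D.cover ▸ trivial
    exact this
  t := g.app D.Y0 D.t
  s := g.app D.Y1 D.s
  inter0 := by rw [← Scheme.preimage_basicOpen, D.inter0]; rfl
  inter1 := by rw [← Scheme.preimage_basicOpen, D.inter1]; rfl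
  mul_one' := by
    have e : ∀ {U V : Y.Opens} (h : V ≤ U) (x : Γ(Y, U)),
        Y'.presheaf.map (homOfLE (fun _ hx => h hx : g ⁻¹ᵁ V ≤ g ⁻¹ᵁ U)).op (g.app U x) =
          g.app V (Y.presheaf.map (homOfLE h).op x) := fun h x =>
      (ConcreteCategory.congr_hom (g.naturality (homOfLE h).op) x).symm
    have h := congrArg (g.app (D.Y0 ⊓ D.Y1)) D.mul_one'
    rw [map_mul, map_one, ← e, ← e] at h
    exact h
  int0 := by
    have h := RingHom.IsIntegral.trans _ (g.app D.Y0).hom D.int0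
      (g.isIntegral_app D.Y0 D.affine0)
    convert h using 1
    refine Polynomial.ringHom_ext (fun a => ?_) ?_
    · simp [app_cst]
    · simp
  int1 := by
    have h := RingHom.IsIntegral.trans _ (g.app D.Y1).hom D.int1
      (g.isIntegral_app D.Y1 D.affine1)
    convert h using 1
    refine Polynomial.ringHom_ext (fun a => ?_) ?_
    · simp [app_cst]
    · simp

theorem idemAIC_of_ringEquiv {C C' : Type u} [CommRing C] [CommRing C'] (e : C ≃+* C') (h : IdemAIC C) :
    IdemAIC C' := by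
  refine ⟨hasRoots_of_surjective e.toRingHom e.surjective h.roots, fun a => ?_⟩
  obtain ⟨x, hx, hxa, hxb⟩ := h.supp (e.symm a)
  refine ⟨e x, hx.map e, by rw [← e.apply_symm_apply a, ← map_mul, hxa], fun b hb => ?_⟩
  rw [← e.apply_symm_apply b, ← map_mul, hxb _ (by rw [← map_mul, hb, map_zero]), map_zero]

open LimTop61.AbsClosure in
/-- Functions on preimages of affine opens in the absolute closure. -/
theorem idemAIC_absClosure (S : Scheme.{u}) {U : S.Opens} (hU : IsAffineOpen U) :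
    IdemAIC Γ(T S, π S ⁻¹ᵁ U) := by
  let f := (chart S).f ⟨U, hU⟩
  have : IsOpenImmersion f := (chart S).map_prop _
  let e1 := (f.appIso ⊤) ≪≫ Scheme.ΓSpecIso ((diagram S).obj (op U))
  have h2 := idemAIC_of_ringEquiv e1.commRingCatIsoToRingEquiv.symm (idemAIC_integ S U)
  rw [π_preimage S ⟨U, hU⟩, ← Scheme.Hom.image_top_eq_opensRange]
  exact h2

end Groth.Agent.PBC51.P1
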