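import Groth.Agent.Cons51.GabberAffine

/-!
Cohomological base change along a closed immersion by effacement, given acyclic integral covers of
finite schemes.
-/

set_option autoImplicit false
set_option backward.isDefEq.respectTransparency.types false
set_option linter.style.haveILetI false
universe u

open CategoryTheory CategoryTheory.Limits CategoryTheory.Abelian AlgebraicGeometry Opposite
open Groth.Agent.Cons51 hiding exists_efface subsingleton_H_pull_push

namespace Groth.Agent.PBC51.P1

/-- Finite schemes have integral covers whose restriction to the closed subscheme has acyclic constants. -/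
def Killer {X Z : Scheme.{u}} (i : Z ⟶ X) : Prop :=
  ∀ (Y : Scheme.{u}) (f : Y ⟶ X), IsFinite f → ∃ (C : Scheme.{u}) (g : C ⟶ Y),
    IsIntegralHom g ∧ Surjective g ∧ ∀ (M : Type) [AddCommGroup M] [Finite M] (q : ℕ),
      Subsingleton (EtCoh.H _ (EtCoh.const (pullback (g ≫ f) i) M) (q + 1))

/-- Direct images of acyclic constants stay acyclic on the closed subscheme. -/
theorem subsingleton_H_pull_push {X Z : Scheme.{u}} (i : Z ⟶ X) [IsClosedImmersion i] {C : Scheme.{u}}
    (h : C ⟶ X) [IsIntegralHom h] (M : Type) [AddCommGroup M] [Finite M]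
    (q : ℕ) (hM : Subsingleton (EtCoh.H _ (EtCoh.const (pullback h i) M) (q + 1))) : Subsingleton (EtCoh.H Z ((EtCoh.pull i).obj ((EtCoh.push h).obj (EtCoh.const _ M))) (q + 1)) := by
  let j := pullback.fst h i
  let f' := pullback.snd h i
  have : IsClosedImmersion j := MorphismProperty.pullback_fst _ _ inferInstance
  have : IsIntegralHom f' := MorphismProperty.pullback_snd _ _ inferInstance
  obtain ⟨e⟩ := nonempty_pull_push_integral h i j f' (IsPullback.of_hasPullback h i) (EtCoh.const _ M)
  let e' := e ≪≫ (EtCoh.push f').mapIso (EtCore.pullConst j M)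
  have : (EtCoh.pull f').Additive := (EtCoh.pullPushAdj f').left_adjoint_additive
  have : (EtCoh.push f').Additive := (EtCoh.pullPushAdj f').right_adjoint_additive
  have : PreservesFiniteLimits (EtCoh.pull f') := Unr55.EtSh.preservesFiniteLimits_pull f'
  have : PreservesFiniteColimits (EtCoh.pull f') := by
    have : PreservesColimitsOfSize.{0, 0} (EtCoh.pull f') := (EtCoh.pullPushAdj f').leftAdjoint_preservesColimits
    infer_instance
  have hb := EtCore45.adjTransfer_bijective (EtCoh.pullPushAdj f') (EtCore.pullConst f' ℤ).inv (q + 1)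
    (EtCoh.const (pullback h i) M) fun p hp => S3054.result f' _ p hp
  have := hb.1.subsingleton
  exact subsingleton_H_of_iso e'.symm (q + 1)

/-- Effacement. -/
theorem exists_efface {X Z : Scheme.{u}} [CompactSpace X] [QuasiSeparatedSpace X] [CompactSpace Z]
    [QuasiSeparatedSpace Z] (i : Z ⟶ X) [IsClosedImmersion i] (hker : Killer i)
    (F : EtCoh.Ab X) (hF : EtCoh.IsTorsion F) (q : ℕ) (ξ : EtCoh.H Z ((EtCoh.pull i).obj F) (q + 1)) :
    ∃ (F' : EtCoh.Ab X) (_ : EtCoh.IsTorsion F') (φ : F ⟶ F') (_ : Mono φ),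
      Sheaf.H.map ((EtCoh.pull i).map φ) (q + 1) ξ = 0 := by
  obtain ⟨J, _, _, D, c, hc, ⟨e₀⟩, hD⟩ := exists_isColimit (generating_of_isTorsion hF)
  have : PreservesColimitsOfShape J (EtCoh.pull i) :=
    (EtCoh.pullPushAdj i).leftAdjoint_preservesColimits.preservesColimitsOfShape
  have := Unr55.HColim.preservesColimitsOfShape_HF (X := Z) J (q + 1)
  obtain ⟨o, w, hw⟩ := Concrete.isColimit_exists_rep _
    (isColimitOfPreserves (EtCoh.HF Z (q + 1)) (isColimitOfPreserves (EtCoh.pull i) hc))
    (Sheaf.H.map ((EtCoh.pull i).map e₀.inv) (q + 1) ξ)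
  obtain ⟨n, Y, f, hf, -, M, _, _, ι, hι⟩ := exists_embedding (hD o)
  choose C g hgi hgs hC using fun k => hker (Y k) (f k) (hf k)
  let h : ∀ k, C k ⟶ X := fun k => g k ≫ f k
  let G : EtCoh.Ab X := ⨁ fun k => (EtCoh.push (h k)).obj (EtCoh.const _ (M k))
  let α : ∀ k, (EtCoh.push (f k)).obj (EtCoh.const (Y k) (M k)) ⟶ (EtCoh.push (h k)).obj (EtCoh.const _ (M k)) :=
    fun k => (EtCoh.push (f k)).map ((EtCoh.pullPushAdj (g k)).unit.app _ ≫
      (EtCoh.push (g k)).map (EtCore.pullConst (g k) (M k)).hom) ≫ (EtCoh.pushComp (f k) (g k)).hom.app _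
  have hα : ∀ k, Mono (α k) := fun k => by
    have := hgs k
    have := Unr55.EtSh.mono_unit_of_surjective (g k) (EtCoh.const (Y k) (M k))
    have := Functor.preservesMonomorphisms_of_adjunction (EtCoh.pullPushAdj (f k))
    let m := (EtCoh.pullPushAdj (g k)).unit.app (EtCoh.const (Y k) (M k)) ≫
      (EtCoh.push (g k)).map (EtCore.pullConst (g k) (M k)).hom
    have : Mono m := mono_comp _ _
    have : Mono ((EtCoh.push (f k)).map m) := inferInstance
    exact mono_comp ((EtCoh.push (f k)).map m) _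
  let a : D.obj o ⟶ G := ι ≫ biproduct.map α
  have : Mono a := mono_comp _ _
  let t : D.obj o ⟶ F := c.ι.app o ≫ e₀.hom
  let φ : F ⟶ pushout t a := pushout.inl t a
  have hG : EtCoh.IsTorsion G := isTorsion_biproduct _ fun k => isTorsion_push_const (h k) (M k)
  have hF' : EtCoh.IsTorsion (pushout t a) := by
    have : Epi (biprod.desc (pushout.inl t a) (pushout.inr t a)) := Preadditive.epi_of_cancel_zero _ fun {A} z hz => by
      refine pushout.hom_ext ?_ ?_
      · simpa using congrArg (fun k => biprod.inl ≫ k) hz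
      · simpa using congrArg (fun k => biprod.inr ≫ k) hz
    exact isTorsion_of_epi (biprod.desc (pushout.inl t a) (pushout.inr t a)) (isTorsion_biprod hF hG)
  refine ⟨_, hF', φ, inferInstance, ?_⟩
  have hG0 : Subsingleton (EtCoh.H Z ((EtCoh.pull i).obj G) (q + 1)) := by
    have : (EtCoh.pull i).Additive := (EtCoh.pullPushAdj i).left_adjoint_additive
    have h1 : ∀ k, Subsingleton (EtCoh.H Z ((EtCoh.pull i).obj ((EtCoh.push (h k)).obj (EtCoh.const _ (M k)))) (q + 1)) :=
      fun k => have := hgi k; have := hf k; subsingleton_H_pull_push i (h k) (M k) q (hC k (M k) q)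
    refine subsingleton_of_forall_eq 0 fun x => ?_
    have ht : ∑ k, (EtCoh.pull i).map (biproduct.π _ k) ≫ (EtCoh.pull i).map (biproduct.ι _ k) =
        𝟙 ((EtCoh.pull i).obj G) := by
      simp only [← Functor.map_comp, ← Functor.map_sum]
      exact (congrArg _ biproduct.total).trans ((EtCoh.pull i).map_id _)
    let ev : ((EtCoh.pull i).obj G ⟶ (EtCoh.pull i).obj G) →+ EtCoh.H Z ((EtCoh.pull i).obj G) (q + 1) :=
      AddMonoidHom.mk' (fun f => Sheaf.H.map f (q + 1) x) fun f g => Sheaf.H.map_add_apply f g x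
    have hx : ev (𝟙 _) = x := Sheaf.H.map_id_apply x
    rw [← hx, ← ht, map_sum]
    refine Finset.sum_eq_zero fun k _ => ?_
    show Sheaf.H.map _ (q + 1) x = 0
    rw [Sheaf.H.map_comp_apply, Subsingleton.elim (h := h1 k) (Sheaf.H.map _ (q + 1) x) 0, map_zero]
  have hξ : Sheaf.H.map ((EtCoh.pull i).map t) (q + 1) w = ξ := by
    have hw' : Sheaf.H.map ((EtCoh.pull i).map (c.ι.app o)) (q + 1) w = Sheaf.H.map ((EtCoh.pull i).map e₀.inv) (q + 1) ξ := hw
    rw [show t = c.ι.app o ≫ e₀.hom from rfl, Functor.map_comp, Sheaf.H.map_comp_apply, hw',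
      ← Sheaf.H.map_comp_apply, ← Functor.map_comp, e₀.inv_hom_id, CategoryTheory.Functor.map_id]
    exact Sheaf.H.map_id_apply ξ
  rw [← hξ, ← Sheaf.H.map_comp_apply, ← Functor.map_comp, pushout.condition, Functor.map_comp,
    Sheaf.H.map_comp_apply, Subsingleton.elim (Sheaf.H.map ((EtCoh.pull i).map a) (q + 1) w) 0, map_zero]

/-- Cohomological base change from effacement. -/
theorem bijective_H {X Z : Scheme.{u}} [CompactSpace X] [QuasiSeparatedSpace X] [CompactSpace Z]
    [QuasiSeparatedSpace Z] (i : Z ⟶ X) [IsClosedImmersion i] (hker : Killer i)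
    (h0 : ∀ F : EtCoh.Ab X, Function.Bijective (((EtCoh.pullPushAdj i).unit.app F).hom.app (op (EtCoh.top X)))) :
    ∀ (q : ℕ) (F : EtCoh.Ab X), EtCoh.IsTorsion F →
      Function.Bijective (Sheaf.H.map ((EtCoh.pullPushAdj i).unit.app F) q) := by
  let adj := EtCoh.pullPushAdj i
  have : (EtCoh.pull i).Additive := adj.left_adjoint_additive
  have : (EtCoh.push i).Additive := adj.right_adjoint_additive
  have : PreservesFiniteLimits (EtCoh.pull i) := Unr55.EtSh.preservesFiniteLimits_pull i
  have : PreservesFiniteColimits (EtCoh.pull i) := by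
    have : PreservesColimitsOfSize.{0, 0} (EtCoh.pull i) := adj.leftAdjoint_preservesColimits
    infer_instance
  have := preservesFiniteColimits_push_integral i
  have : PreservesFiniteLimits (EtCoh.push i) := by
    have : PreservesLimitsOfSize.{0, 0} (EtCoh.push i) := adj.rightAdjoint_preservesLimits
    infer_instance
  let P := EtCoh.pull i ⋙ EtCoh.push i
  intro q
  induction q with
  | zero => exact fun F _ => bijective_H_zero i h0 F
  | succ q ih =>
    intro F hF
    have kill : ∀ ξ : EtCoh.H X (P.obj F) (q + 1), ∃ (F' : EtCoh.Ab X) (φ : F ⟶ F'),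
        Mono φ ∧ EtCoh.IsTorsion F' ∧ ξ.comp (Ext.mk₀ (P.map φ)) (add_zero _) = 0 := by
      intro ξ
      obtain ⟨F', hF', φ, hφ, h⟩ := exists_efface i hker F hF q
        (EtCore45.adjTransfer adj (EtCore.pullConst i ℤ).inv _ (q + 1) ξ)
      refine ⟨F', φ, hφ, hF', (EtCore45.adjTransfer_bijective adj (EtCore.pullConst i ℤ).inv (q + 1) _
        fun p hp => S3054.result i _ p hp).1 ?_⟩
      rw [map_zero]
      exact (EtCore45.adjTransfer_naturality adj _ ξ ((EtCoh.pull i).map φ)).trans h
    have step : ∀ {F' : EtCoh.Ab X} (φ : F ⟶ F') [Mono φ], EtCoh.IsTorsion F' →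
        ∃ (hS : (ShortComplex.mk φ (cokernel.π φ) (cokernel.condition φ)).ShortExact)
          (hS' : ((ShortComplex.mk φ (cokernel.π φ) (cokernel.condition φ)).map P).ShortExact),
          EtCoh.IsTorsion (cokernel φ) ∧
          hS.extClass.comp (Ext.mk₀ (adj.unit.app F)) (add_zero 1) =
            (Ext.mk₀ (adj.unit.app (cokernel φ))).comp hS'.extClass (zero_add 1) := by
      intro F' φ _ hF'
      let S := ShortComplex.mk φ (cokernel.π φ) (cokernel.condition φ)
      have hS : S.ShortExact := ShortComplex.ShortExact.mk' (ShortComplex.exact_cokernel _) inferInstance inferInstance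
      have hS' : (S.map P).ShortExact := hS.map_of_exact P
      let m : S ⟶ S.map P :=
        { τ₁ := adj.unit.app _, τ₂ := adj.unit.app _, τ₃ := adj.unit.app _
          comm₁₂ := (adj.unit.naturality φ).symm
          comm₂₃ := (adj.unit.naturality (cokernel.π φ)).symm }
      exact ⟨hS, hS', isTorsion_of_epi (cokernel.π φ) hF', ShortComplex.ShortExact.extClass_naturality hS hS' m⟩
    refine ⟨(injective_iff_map_eq_zero _).2 fun x hx => ?_, fun ξ => ?_⟩
    · obtain ⟨T, v, hv, hT, hacy⟩ := exists_torsion_acyclic hF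
      obtain ⟨hS, hS', hQ, hnat⟩ := step v hT
      obtain ⟨a, ha⟩ := Ext.covariant_sequence_exact₁ _ hS x ((hacy (q + 1) le_add_self).elim _ _) rfl
      have h1 : (a.comp (Ext.mk₀ (adj.unit.app (cokernel v))) (add_zero q)).comp hS'.extClass rfl = 0 := by
        refine (Ext.comp_assoc (a₂₃ := 1) _ _ _ (add_zero q) (zero_add 1) (by omega)).trans ?_
        refine (congrArg (fun z => a.comp z rfl) hnat.symm).trans ?_
        refine (Ext.comp_assoc (a₁₂ := q + 1) _ _ _ rfl (add_zero 1) (by omega)).symm.trans ?_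
        exact (congrArg (fun z => Ext.comp z (Ext.mk₀ (adj.unit.app F)) (add_zero (q + 1))) ha).trans hx
      obtain ⟨b, hb⟩ := Ext.covariant_sequence_exact₃ _ hS' _ rfl h1
      obtain ⟨b', hb'⟩ := (ih T hT).2 b
      have ha' : a = b'.comp (Ext.mk₀ (cokernel.π v)) (add_zero q) := by
        refine (ih (cokernel v) hQ).1 ?_
        rw [Sheaf.H.map_apply] at hb'
        rw [Sheaf.H.map_apply, Sheaf.H.map_apply, ← hb, ← hb']
        refine (Ext.comp_assoc_of_second_deg_zero b' _ _ _).trans (Eq.trans ?_ (Ext.comp_assoc_of_second_deg_zero b' _ _ _).symm)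
        refine congrArg (fun z => Ext.comp b' z (add_zero q)) ?_
        refine (Ext.mk₀_comp_mk₀ _ _).trans (Eq.trans (congrArg Ext.mk₀ ?_) (Ext.mk₀_comp_mk₀ _ _).symm)
        exact (adj.unit.naturality (cokernel.π v)).symm
      rw [← ha, ha', Ext.comp_assoc_of_second_deg_zero]
      exact (congrArg (fun z => b'.comp z (zero_add q ▸ rfl)) hS.comp_extClass).trans (by simp)
    · obtain ⟨F', φ, hφ, hF', hk⟩ := kill ξ
      obtain ⟨hS, hS', hQ, hnat⟩ := step φ hF'
      obtain ⟨a, ha⟩ := Ext.covariant_sequence_exact₁ _ hS' ξ hk rfl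
      obtain ⟨a', ha'⟩ := (ih _ hQ).2 a
      refine ⟨a'.comp hS.extClass rfl, ?_⟩
      rw [Sheaf.H.map_apply] at ha'
      refine (Ext.comp_assoc (a₂₃ := 1) _ _ _ rfl (add_zero 1) (by omega)).trans ?_
      refine (congrArg (fun z => a'.comp z rfl) hnat).trans ?_
      refine (Ext.comp_assoc (a₁₂ := q) _ _ _ (add_zero q) (zero_add 1) (by omega)).symm.trans ?_
      exact (congrArg (fun z => Ext.comp z hS'.extClass rfl) ha').trans ha

end Groth.Agent.PBC51.P1
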