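import Groth.Agent.PBC51.Loop.Main
import Mathlib.RingTheory.Spectrum.Prime.Topology
import Mathlib.Topology.LocallyConstant.Algebra
import Mathlib.GroupTheory.OrderOfElement

/-!
Locally constant functions on the overlap of the closed fibre are differences of functions on the
two charts.
-/

set_option autoImplicit false
set_option linter.unusedSectionVars false

namespace Groth.Agent.PBC51.P1

open IsLocalRing Groth.Agent.Cons51 PrimeSpectrum Loop

universe u v

/-- The index of the idempotent which does not vanish at a point. -/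
theorem exists_unique_idx {R : Type u} [CommRing R] {I : Ideal R} {n : ℕ} (g : Fin n → R)
    (hg : CompleteOrthogonalIdempotents fun a => Ideal.Quotient.mk I (g a)) (x : PrimeSpectrum R)
    (hx : I ≤ x.asIdeal) : ∃! a, g a ∉ x.asIdeal := by
  classical
  have h : ∃ a, g a ∉ x.asIdeal := by
    by_contra h
    push Not at h
    refine x.isPrime.ne_top ((Ideal.eq_top_iff_one _).2 ?_)
    have h1 : ∑ a, g a - 1 ∈ I := Ideal.Quotient.eq_zero_iff_mem.1 (by simp [hg.complete])
    simpa using x.asIdeal.sub_mem (Ideal.sum_mem x.asIdeal (t := Finset.univ) (f := g) fun a _ => h a) (hx h1)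
  obtain ⟨a, ha⟩ := h
  refine ⟨a, ha, fun b hb => ?_⟩
  by_contra hne
  have h1 : g b * g a ∈ I := Ideal.Quotient.eq_zero_iff_mem.1 (by rw [map_mul]; exact hg.ortho hne)
  exact (x.isPrime.mem_or_mem (hx h1)).elim hb ha

/-- The function given by idempotents modulo an ideal. -/
theorem exists_label {R : Type u} [CommRing R] {I : Ideal R} {n : ℕ} {U : Type*} [TopologicalSpace U]
    (eU : U → PrimeSpectrum R) (hc : Continuous eU) (hI : ∀ x, I ≤ (eU x).asIdeal) (g : Fin n → R)
    (hg : CompleteOrthogonalIdempotents fun a => Ideal.Quotient.mk I (g a)) :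
    ∃ f : LocallyConstant U (Fin n), ∀ x a, g a ∉ (eU x).asIdeal ↔ f x = a := by
  choose f hf hu using fun x => exists_unique_idx g hg (eU x) (hI x)
  have key : ∀ x a, g a ∉ (eU x).asIdeal ↔ f x = a := fun x a =>
    ⟨fun h => (hu x a h).symm, fun h => h ▸ hf x⟩
  refine ⟨⟨f, IsLocallyConstant.iff_isOpen_fiber.2 fun a => ?_⟩, key⟩
  have e : f ⁻¹' {a} = eU ⁻¹' (basicOpen (g a) : Set (PrimeSpectrum R)) :=
    Set.ext fun x => (key x a).symm
  rw [e]
  exact (basicOpen (g a)).2.preimage hc

/-- Clopens of a closed subset of a spectrum are given by elements idempotent on it. -/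
theorem exists_idem {R : Type u} [CommRing R] (I : Ideal R) {W : Type*} [TopologicalSpace W]
    (eW : W → PrimeSpectrum R) (he : Topology.IsEmbedding eW) (hr : Set.range eW = zeroLocus (I : Set R))
    {E : Set W} (hE : IsClopen E) :
    ∃ e : R, e * e - e ∈ I ∧ ∀ x, x ∈ E ↔ e ∉ (eW x).asIdeal := by
  let π := Ideal.Quotient.mk I
  have hmem : ∀ y : PrimeSpectrum (R ⧸ I), comap π y ∈ Set.range eW := fun y => by
    rw [hr, mem_zeroLocus]
    intro a ha
    show π a ∈ y.asIdeal
    rw [Ideal.Quotient.eq_zero_iff_mem.2 ha]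
    exact zero_mem _
  let ψ : PrimeSpectrum (R ⧸ I) → W := fun y => he.toHomeomorph.symm ⟨comap π y, hmem y⟩
  have hψ : Continuous ψ :=
    he.toHomeomorph.symm.continuous.comp (PrimeSpectrum.continuous_comap π |>.subtype_mk _)
  have heψ : ∀ y, eW (ψ y) = comap π y := fun y => congrArg Subtype.val (he.toHomeomorph.apply_symm_apply _)
  obtain ⟨e', he', hEe⟩ := PrimeSpectrum.isClopen_iff.1 (hE.preimage hψ)
  obtain ⟨e, rfl⟩ := Ideal.Quotient.mk_surjective e'
  refine ⟨e, Ideal.Quotient.eq_zero_iff_mem.1 (by rw [map_sub, map_mul, he'.eq, sub_self]), fun x => ?_⟩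
  obtain ⟨y, hy⟩ : eW x ∈ Set.range (comap π) := by
    rw [range_comap_of_surjective _ π Ideal.Quotient.mk_surjective, Ideal.mk_ker, ← hr]
    exact Set.mem_range_self x
  have hxy : ψ y = x := he.injective ((heψ y).trans hy)
  have h := Set.ext_iff.1 hEe y
  rw [Set.mem_preimage, hxy] at h
  rw [h, ← hy]
  rfl

section

variable {A R0 R1 R01 : Type u} [CommRing A] [HenselianLocalRing A] [CommRing R0] [CommRing R1] [CommRing R01]
  (D : Charts A R0 R1 R01)
variable {U V W : Type*} [TopologicalSpace U] [TopologicalSpace V] [TopologicalSpace W]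
  (eU : U → PrimeSpectrum R0) (eV : V → PrimeSpectrum R1) (eW : W → PrimeSpectrum R01)
  (r0 : W → U) (r1 : W → V)
  (hU : Continuous eU) (hV : Continuous eV) (hW : Topology.IsEmbedding eW)
  (hUI : ∀ x, (maximalIdeal A).map (D.φ0.comp Polynomial.C) ≤ (eU x).asIdeal)
  (hVI : ∀ x, (maximalIdeal A).map (D.φ1.comp Polynomial.C) ≤ (eV x).asIdeal)
  (hWr : Set.range eW = zeroLocus ((maximalIdeal A).map D.const : Set R01))
  (h0 : ∀ w, eU (r0 w) = comap D.i0 (eW w)) (h1 : ∀ w, eV (r1 w) = comap D.i1 (eW w))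
variable {M : Type v} [AddCommGroup M]

include hU hV hW hUI hVI hWr h0 h1 in
/-- A multiple of an indicator function is a difference. -/
theorem exists_diff_indicator (n : ℕ) [NeZero n] (m : M) (hm : n • m = 0)
    (hloop : ∀ e : R01, e * e - e ∈ (maximalIdeal A).map D.const → D.LoopTrivial n e)
    {E : Set W} (hE : IsClopen E) :
    ∃ (a : LocallyConstant U M) (b : LocallyConstant V M),
      ∀ w, (w ∈ E → a (r0 w) - b (r1 w) = m) ∧ (w ∉ E → a (r0 w) - b (r1 w) = 0) := by
  obtain ⟨e, hee, heE⟩ := exists_idem _ eW hW hWr hE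
  obtain ⟨g0, g1, hg0, hg1, hg⟩ := hloop e hee
  obtain ⟨f0, hf0⟩ := exists_label eU hU hUI g0 hg0
  obtain ⟨f1, hf1⟩ := exists_label eV hV hVI g1 hg1
  have hsucc : ∀ a : Fin n, ((finRotate n a : Fin n) : ℕ) • m = (a : ℕ) • m + m := fun a => by
    rw [finRotate_apply, Fin.val_add, Fin.val_one', Nat.add_mod_mod]
    conv_rhs => rw [← succ_nsmul, ← Nat.mod_add_div ((a : ℕ) + 1) n, add_nsmul, mul_nsmul, hm, nsmul_zero, add_zero]
  refine ⟨f0.map fun a : Fin n => -((a : ℕ) • m), f1.map fun a : Fin n => -((a : ℕ) • m), fun w => ?_⟩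
  have hI : (maximalIdeal A).map D.const ≤ (eW w).asIdeal := fun a ha =>
    (mem_zeroLocus _ _).1 (hWr.le (Set.mem_range_self w)) ha
  let P := (eW w).asIdeal
  let g0' : Fin n → R01 := fun a => D.i0 (g0 a)
  have k0 : ∀ a, g0' a ∉ P ↔ f0 (r0 w) = a := fun a => by rw [← hf0, h0]; rfl
  have k1 : ∀ a, D.i1 (g1 a) ∉ P ↔ f1 (r1 w) = a := fun a => by rw [← hf1, h1]; rfl
  have hb := fun b => hI (hg b)
  have hne : (eW w).asIdeal ≠ ⊤ := (eW w).isPrime.ne_top
  refine ⟨fun hw => ?_, fun hw => ?_⟩
  · have he1 : e ∉ P := (heE w).1 hw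
    have he2 : 1 - e ∈ P := by
      refine ((eW w).isPrime.mem_or_mem ?_).resolve_left he1
      rw [show e * (1 - e) = -(e * e - e) by ring]
      exact P.neg_mem (hI hee)
    have key : f1 (r1 w) = finRotate n (f0 (r0 w)) := by
      refine (k1 _).1 fun hmem => ?_
      have h' := hb (finRotate n (f0 (r0 w)))
      rw [Equiv.symm_apply_apply] at h'
      have h'' : e * g0' (f0 (r0 w)) ∈ P := by
        have h2 := P.sub_mem hmem (P.add_mem h' (P.mul_mem_right
          (g0' (finRotate n (f0 (r0 w)))) he2))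
        convert h2 using 1
        ring
      exact ((eW w).isPrime.mem_or_mem h'').elim he1 ((k0 _).2 rfl)
    simp only [LocallyConstant.map_apply, Function.comp_apply, key, hsucc]
    abel
  · have he1 : e ∈ P := by
      by_contra h
      exact hw ((heE w).2 h)
    have key : f1 (r1 w) = f0 (r0 w) := by
      refine (k1 _).1 fun hmem => ?_
      have h'' : (1 - e) * g0' (f0 (r0 w)) ∈ P := by
        have h2 := P.sub_mem hmem (P.add_mem (hb (f0 (r0 w))) (P.mul_mem_right
          (g0' ((finRotate n).symm (f0 (r0 w)))) he1))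
        convert h2 using 1
        ring
      refine ((eW w).isPrime.mem_or_mem h'').elim (fun h => hne ((Ideal.eq_top_iff_one _).2 ?_)) ((k0 _).2 rfl)
      simpa using P.add_mem h he1
    simp only [LocallyConstant.map_apply, Function.comp_apply, key, sub_self]

include hU hV hW hUI hVI hWr h0 h1 in
/-- A locally constant function of finitely many torsion values is a difference. -/
theorem exists_diff [Finite M] (hR0 : IdemAIC R0) (hR1 : IdemAIC R1) (hR01 : IdemAIC R01)
    (c : LocallyConstant W M) :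
    ∃ (a : LocallyConstant U M) (b : LocallyConstant V M), ∀ w, a (r0 w) - b (r1 w) = c w := by
  classical
  have := Fintype.ofFinite M
  have h : ∀ m : M, ∃ (a : LocallyConstant U M) (b : LocallyConstant V M),
      ∀ w, (w ∈ c ⁻¹' {m} → a (r0 w) - b (r1 w) = m) ∧ (w ∉ c ⁻¹' {m} → a (r0 w) - b (r1 w) = 0) := fun m =>
    have : NeZero (addOrderOf m) := ⟨(isOfFinAddOrder_of_finite m).addOrderOf_pos.ne'⟩
    exists_diff_indicator D eU eV eW r0 r1 hU hV hW hUI hVI hWr h0 h1 (addOrderOf m) m (addOrderOf_nsmul_eq_zero m)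
      (fun _ => D.loop_trivial hR0 hR1 hR01 (addOrderOf m))
      ⟨c.isLocallyConstant.isClosed_fiber m, c.isLocallyConstant.isOpen_fiber m⟩
  choose a b hab using h
  refine ⟨∑ m, a m, ∑ m, b m, fun w => ?_⟩
  show LocallyConstant.coeFnAddMonoidHom (∑ m, a m) (r0 w) - LocallyConstant.coeFnAddMonoidHom (∑ m, b m) (r1 w) = _
  rw [map_sum, map_sum, Finset.sum_apply, Finset.sum_apply]
  simp only [LocallyConstant.coeFnAddMonoidHom_apply]
  rw [← Finset.sum_sub_distrib, Finset.sum_eq_single (c w) (fun m _ hm => (hab m w).2 fun h => hm h.symm)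
    (fun h => absurd (Finset.mem_univ _) h)]
  exact (hab _ w).1 rfl

end

end Groth.Agent.PBC51.P1
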