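import Groth.Agent.Cons51.ProperBC0
import Groth.Agent.Unr55.Et.StrictHens

/-!
Global sections of a sheaf on a proper scheme over a strictly henselian ring are those of its restriction
to the closed fibre.
-/

set_option autoImplicit false
set_option backward.isDefEq.respectTransparency.types false
universe u

open CategoryTheory CategoryTheory.Limits AlgebraicGeometry Opposite
open Groth.Agent.Unr55.EtSh Groth.Agent.EtCore45

namespace Groth.Agent.PBC51.P1

theorem map_iso_bijective {X : Scheme.{u}} (G : EtCoh.Ab X) {V W : X.Etale} (e : V ≅ W) :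
    Function.Bijective (G.obj.map e.hom.op) :=
  ConcreteCategory.bijective_of_isIso (G.obj.map e.hom.op)

/-- Restriction to the closed point is bijective on global sections. -/
theorem bijective_unit_closedPt (R : Type u) [CommRing R] [HenselianLocalRing R]
    [IsSepClosed (IsLocalRing.ResidueField R)] (G : EtCoh.Ab (Spec (CommRingCat.of R))) :
    Function.Bijective (((EtCoh.pullPushAdj (closedPt R)).unit.app G).hom.app (op (EtCoh.top _))) := by
  let g := closedPt R
  let η : Spec (CommRingCat.of (IsLocalRing.ResidueField R)) ⟶ Spec (CommRingCat.of (IsLocalRing.ResidueField R)) := 𝟙 _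
  let s : Pt (η ≫ g) (EtCoh.top (Spec (CommRingCat.of R))) := mkPt _ (η ≫ g) (Category.comp_id _)
  let H := (EtCoh.pull g).obj G
  have hgen : ∀ (ξ : Spec (CommRingCat.of (IsLocalRing.ResidueField R)) ⟶ Spec (CommRingCat.of R)), ξ = g →
      ∀ p : Pt ξ (EtCoh.top (Spec (CommRingCat.of R))), Function.Bijective (germ ξ G p) := by
    intro ξ hξ p
    subst hξ
    have : p = topPt R := Over.OverMorphism.ext ((Category.comp_id _).symm.trans (Over.w p))
    rw [this]
    exact germ_top_bijective R G
  have h1 : Function.Bijective (fun τ => theta g η G (germ (η ≫ g) G s τ)) :=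
    (theta_bijective g η G).comp (hgen _ (Category.id_comp g) s)
  have h2 : Function.Bijective (germ η H (ptUp g η s)) := by
    let t := (Scheme.pointSmallEtale η).fiber.map (Cons51.bcTopIso g).hom (ptUp g η s)
    have ht : t = mkPt η η (Category.comp_id _) := Over.OverMorphism.ext ((Category.comp_id _).symm.trans (Over.w t))
    have h3 : germ η H (ptUp g η s) ∘ H.obj.map (Cons51.bcTopIso g).hom.op = germ η H t :=
      funext fun σ => germ_map η H (Cons51.bcTopIso g).hom (ptUp g η s) σ
    refine (Function.Bijective.of_comp_iff _ (map_iso_bijective H (Cons51.bcTopIso g))).1 ?_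
    rw [h3, ht]
    exact Cons51.germ_top_bijective_id H
  refine (Function.Bijective.of_comp_iff' h2 _).1 ?_
  refine Eq.mp (congrArg Function.Bijective ?_) h1
  exact funext fun τ => theta_germ g η G s τ

variable {R : Type u} [CommRing R] [HenselianLocalRing R] [IsSepClosed (IsLocalRing.ResidueField R)]

/-- Restriction to the closed fibre of a proper scheme is bijective on global sections. -/
theorem bijective_unit_top {X X0 : Scheme.{u}} (p : X ⟶ Spec (CommRingCat.of R)) [IsProper p] (i : X0 ⟶ X)
    (p' : X0 ⟶ Spec (CommRingCat.of (IsLocalRing.ResidueField R))) (h : IsPullback i p' p (closedPt R))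
    (F : EtCoh.Ab X) :
    Function.Bijective (((EtCoh.pullPushAdj i).unit.app F).hom.app (op (EtCoh.top X))) := by
  let g := closedPt R
  let top := EtCoh.top (Spec (CommRingCat.of R))
  have := Cons51.isIso_baseChange0_proper p g p' i h F
  let bc := EtCoh.baseChange0 p g p' i h.w F
  have hbc : Function.Bijective (bc.hom.app (op ((EtCoh.bc g).obj top))) := by
    have : IsIso bc.hom :=
      (inferInstance : IsIso ((sheafToPresheaf _ AddCommGrpCat.{u + 1}).map bc))
    exact ConcreteCategory.bijective_of_isIso (bc.hom.app _)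
  let c := bcCmp p g p' i h.w top
  have hc : IsIso c := by
    have : ∀ {A B C D : X0.Etale} (a : A ⟶ B) (b : B ⟶ C) (d : C ⟶ D), IsIso a → IsIso b → IsIso d → IsIso (a ≫ b ≫ d) :=
      fun _ _ _ _ _ _ => inferInstance
    exact this _ _ _
      (((MorphismProperty.Over.pullbackComp (P := EtCoh.etaleMP) (Q := ⊤) p' g).symm.app top).isIso_hom)
      (((MorphismProperty.Over.pullbackCongr (P := EtCoh.etaleMP) (Q := ⊤) h.w).symm.app top).isIso_hom)
      (((MorphismProperty.Over.pullbackComp (P := EtCoh.etaleMP) (Q := ⊤) i p).app top).isIso_hom)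
  have hV : Function.Bijective (((EtCoh.pullPushAdj i).unit.app F).hom.app (op ((EtCoh.bc p).obj top))) := by
    refine (Function.Bijective.of_comp_iff' (map_iso_bijective ((EtCoh.pull i).obj F) (asIso c)) _).1 ?_
    have he : ((EtCoh.pull i).obj F).obj.map c.op ∘
        ((EtCoh.pullPushAdj i).unit.app F).hom.app (op ((EtCoh.bc p).obj top)) =
        bc.hom.app (op ((EtCoh.bc g).obj top)) ∘
          ((EtCoh.pullPushAdj g).unit.app ((EtCoh.push p).obj F)).hom.app (op top) :=
      funext fun σ => (unit_bc0_app p g p' i h.w F top σ).symm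
    rw [show (asIso c).hom = c from rfl, he]
    exact hbc.comp (bijective_unit_closedPt R _)
  let e := Cons51.bcTopIso p
  refine (Function.Bijective.of_comp_iff'
    (map_iso_bijective ((EtCoh.push i).obj ((EtCoh.pull i).obj F)) e) _).1 ?_
  have he : ((EtCoh.push i).obj ((EtCoh.pull i).obj F)).obj.map e.hom.op ∘
      ((EtCoh.pullPushAdj i).unit.app F).hom.app (op (EtCoh.top X)) =
      ((EtCoh.pullPushAdj i).unit.app F).hom.app (op ((EtCoh.bc p).obj top)) ∘ F.obj.map e.hom.op :=
    funext fun σ => (NatTrans.naturality_apply ((EtCoh.pullPushAdj i).unit.app F).hom e.hom.op σ).symm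
  rw [he]
  exact hV.comp (map_iso_bijective F e)

end Groth.Agent.PBC51.P1
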