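import Groth.Agent.PBC51.P1.Vanish
import Groth.Agent.PBC51.P1.Efface
import Groth.Agent.PBC51.P1.UnitTop

/-!
Proper base change for torsion sheaves on two-chart covers of the projective line over strictly
henselian local rings.
-/

set_option autoImplicit false
set_option backward.isDefEq.respectTransparency.types false
universe u

open CategoryTheory CategoryTheory.Limits AlgebraicGeometry Opposite IsLocalRing
open Groth.Agent.Cons51 Groth.Agent.Unr55.EtSh

namespace Groth.Agent.PBC51.P1

variable {A : Type u} [CommRing A] {X : Scheme.{u}} {p : X ⟶ Spec (CommRingCat.of A)}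

theorem range_closedPt [HenselianLocalRing A] [IsSepClosed (ResidueField A)] :
    Set.range (closedPt A) = {closedPoint A} := by
  ext x
  constructor
  · rintro ⟨z, rfl⟩
    exact PrimeSpectrum.comap_residue A z
  · rintro rfl
    exact ⟨(default : PrimeSpectrum (ResidueField A)), PrimeSpectrum.comap_residue A _⟩

open LimTop61.AbsClosure in
/-- Integral covers killing cohomology on the closed fibre. -/
theorem killer [HenselianLocalRing A] (D : Data p) {X0 : Scheme.{u}} (i : X0 ⟶ X) [IsClosedImmersion i]
    (hi : Set.range i = p ⁻¹' {closedPoint A}) : Killer i := by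
  intro Y f hf
  let g := π Y
  refine ⟨T Y, g, inferInstance, inferInstance, fun M _ _ q => ?_⟩
  let h := g ≫ f
  have : IsClosedImmersion (pullback.fst h i) := MorphismProperty.pullback_fst _ _ inferInstance
  have hU : ∀ {U : X.Opens}, IsAffineOpen U → IdemAIC Γ(T Y, h ⁻¹ᵁ U) := fun {U} hU => by
    rw [show h ⁻¹ᵁ U = π Y ⁻¹ᵁ (f ⁻¹ᵁ U) from rfl]
    exact idemAIC_absClosure Y (hU.preimage f)
  refine subsingleton_H_closedFibre (D.pull h) (hU D.affine0) (hU D.affine1) (hU D.affine01) (pullback.fst h i) ?_ M q
  rw [Scheme.Pullback.range_fst, hi]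
  rfl

/-- Cohomology of torsion sheaves is that of the closed fibre. -/
theorem bijective_H_closedFibre [HenselianLocalRing A] [IsSepClosed (ResidueField A)] [IsProper p] (D : Data p)
    {X0 : Scheme.{u}} (i : X0 ⟶ X) (p' : X0 ⟶ Spec (CommRingCat.of (ResidueField A)))
    (h : IsPullback i p' p (closedPt A)) (q : ℕ) (F : EtCoh.Ab X) (hF : EtCoh.IsTorsion F) :
    Function.Bijective (Sheaf.H.map ((EtCoh.pullPushAdj i).unit.app F) q) := by
  have : IsClosedImmersion (closedPt A) := IsClosedImmersion.spec_of_surjective _ residue_surjective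
  have : IsClosedImmersion i := MorphismProperty.of_isPullback h.flip inferInstance
  have : CompactSpace X := QuasiCompact.compactSpace_of_compactSpace p
  have : QuasiSeparatedSpace X := quasiSeparatedSpace_of_quasiSeparated p
  have : QuasiSeparatedSpace X0 := quasiSeparatedSpace_of_quasiSeparated i
  have : CompactSpace X0 := QuasiCompact.compactSpace_of_compactSpace i
  have hi : Set.range i = p ⁻¹' {closedPoint A} := by
    rw [← range_closedPt, ← Scheme.Pullback.range_fst, ← h.isoPullback_hom_fst]
    exact (h.isoPullback.hom.surjective).range_comp _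
  exact bijective_H i (killer D i hi) (bijective_unit_top p i p' h) q F hF

end Groth.Agent.PBC51.P1
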