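import Groth.Agent.PBC51.P1.Cover
import Groth.Agent.PBC51.P1.Lc
import Groth.Agent.PBC51.P1.Data

/-!
Constant sheaves on the closed fibre of a two-chart cover with absolutely integrally closed charts
are acyclic.
-/

set_option autoImplicit false
set_option backward.isDefEq.respectTransparency.types false
universe u

open CategoryTheory CategoryTheory.Limits AlgebraicGeometry Opposite IsLocalRing
open Groth.Agent.Cons51

namespace Groth.Agent.PBC51.P1

variable {A : Type u} [CommRing A] {Y : Scheme.{u}} {p : Y ⟶ Spec (CommRingCat.of A)}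

/-- The charts attached to a two-chart cover. -/
noncomputable def Data.charts (D : Data p) : Loop.Charts A Γ(Y, D.Y0) Γ(Y, D.Y1) Γ(Y, D.Y0 ⊓ D.Y1) where
  φ0 := Polynomial.eval₂RingHom (cst p D.Y0) D.t
  φ1 := Polynomial.eval₂RingHom (cst p D.Y1) D.s
  i0 := (Y.presheaf.map (homOfLE (inf_le_left : D.Y0 ⊓ D.Y1 ≤ D.Y0)).op).hom
  i1 := (Y.presheaf.map (homOfLE (inf_le_right : D.Y0 ⊓ D.Y1 ≤ D.Y1)).op).hom
  int0 := D.int0
  int1 := D.int1
  mul_one' := by simpa using D.mul_one'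
  comm a := by simp [res_cst]
  surj0 x := by
    let := (Y.presheaf.map (homOfLE (inf_le_left : D.Y0 ⊓ D.Y1 ≤ D.Y0)).op).hom.toAlgebra
    have : IsLocalization.Away D.t Γ(Y, D.Y0 ⊓ D.Y1) := D.affine0.isLocalization_of_eq_basicOpen D.t _ D.inter0.symm
    obtain ⟨N, a, ha⟩ := IsLocalization.Away.surj (S := Γ(Y, D.Y0 ⊓ D.Y1)) D.t x
    refine ⟨N, a, ?_⟩
    rw [mul_comm]
    simp only [Polynomial.coe_eval₂RingHom, Polynomial.eval₂_X]
    exact ha
  ker0 a ha := by
    let := (Y.presheaf.map (homOfLE (inf_le_left : D.Y0 ⊓ D.Y1 ≤ D.Y0)).op).hom.toAlgebra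
    have : IsLocalization.Away D.t Γ(Y, D.Y0 ⊓ D.Y1) := D.affine0.isLocalization_of_eq_basicOpen D.t _ D.inter0.symm
    obtain ⟨⟨_, N, rfl⟩, hN⟩ := (IsLocalization.map_eq_zero_iff (Submonoid.powers D.t) Γ(Y, D.Y0 ⊓ D.Y1) a).1 ha
    exact ⟨N, by simpa using hN⟩
  surj1 x := by
    let := (Y.presheaf.map (homOfLE (inf_le_right : D.Y0 ⊓ D.Y1 ≤ D.Y1)).op).hom.toAlgebra
    have : IsLocalization.Away D.s Γ(Y, D.Y0 ⊓ D.Y1) := D.affine1.isLocalization_of_eq_basicOpen D.s _ D.inter1.symm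
    obtain ⟨N, a, ha⟩ := IsLocalization.Away.surj (S := Γ(Y, D.Y0 ⊓ D.Y1)) D.s x
    refine ⟨N, a, ?_⟩
    rw [mul_comm]
    simp only [Polynomial.coe_eval₂RingHom, Polynomial.eval₂_X]
    exact ha
  ker1 a ha := by
    let := (Y.presheaf.map (homOfLE (inf_le_right : D.Y0 ⊓ D.Y1 ≤ D.Y1)).op).hom.toAlgebra
    have : IsLocalization.Away D.s Γ(Y, D.Y0 ⊓ D.Y1) := D.affine1.isLocalization_of_eq_basicOpen D.s _ D.inter1.symm
    obtain ⟨⟨_, N, rfl⟩, hN⟩ := (IsLocalization.map_eq_zero_iff (Submonoid.powers D.s) Γ(Y, D.Y0 ⊓ D.Y1) a).1 ha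
    exact ⟨N, by simpa using hN⟩

theorem Data.charts_φ0_C (D : Data p) : D.charts.φ0.comp Polynomial.C = cst p D.Y0 :=
  RingHom.ext fun a => by simp [Data.charts]

theorem Data.charts_φ1_C (D : Data p) : D.charts.φ1.comp Polynomial.C = cst p D.Y1 :=
  RingHom.ext fun a => by simp [Data.charts]

theorem Data.charts_const (D : Data p) : D.charts.const = cst p (D.Y0 ⊓ D.Y1) := by
  refine RingHom.ext fun a => ?_
  simp [Loop.Charts.const, Data.charts, res_cst]

/-- The image of a point in the base. -/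
theorem comap_cst {U : Y.Opens} (hU : IsAffineOpen U) (P : Spec Γ(Y, U)) :
    p (hU.fromSpec P) = PrimeSpectrum.comap (cst p U) P := by
  have h := (isAffineOpen_top (Spec (CommRingCat.of A))).SpecMap_appLE_fromSpec p hU
    (by rw [Scheme.Hom.preimage_top]; exact le_top)
  rw [IsAffineOpen.fromSpec_top, Scheme.isoSpec_Spec_inv, ← Spec.map_comp] at h
  exact (congrArg (fun k : Spec Γ(Y, U) ⟶ _ => k P) h).symm

section Fibre

set_option linter.unusedSectionVars false

variable [IsLocalRing A]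

theorem le_asIdeal_iff {U : Y.Opens} (hU : IsAffineOpen U) (P : Spec Γ(Y, U)) :
    (maximalIdeal A).map (cst p U) ≤ P.asIdeal ↔ p (hU.fromSpec P) = closedPoint A := by
  rw [comap_cst, Ideal.map_le_iff_le_comap]
  constructor
  · intro h
    exact PrimeSpectrum.ext ((maximalIdeal.isMaximal A).eq_of_le (Ideal.comap_ne_top _ P.isPrime.ne_top) h).symm
  · intro h
    exact (congrArg PrimeSpectrum.asIdeal h).ge

variable {T : Scheme.{u}} (i : T ⟶ Y) [IsClosedImmersion i]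

/-- The embedding of a chart of the fibre in the spectrum. -/
noncomputable def emb {U : Y.Opens} (hU : IsAffineOpen U) : (i ⁻¹ᵁ U).toScheme ⟶ Spec Γ(Y, U) :=
  (i ∣_ U) ≫ hU.isoSpec.hom

theorem isClosedImmersion_emb {U : Y.Opens} (hU : IsAffineOpen U) : IsClosedImmersion (emb i hU) := by
  have : IsClosedImmersion (i ∣_ U) := IsZariskiLocalAtTarget.restrict (P := @IsClosedImmersion) inferInstance U
  unfold emb
  infer_instance

theorem fromSpec_emb {U : Y.Opens} (hU : IsAffineOpen U) (x : (i ⁻¹ᵁ U).toScheme) :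
    hU.fromSpec (emb i hU x) = i x.1 := by
  rw [emb, ← Scheme.Hom.comp_apply, Category.assoc, hU.isoSpec_hom_fromSpec, morphismRestrict_ι]
  rfl

theorem range_emb (hi : Set.range i = p ⁻¹' {closedPoint A}) {U : Y.Opens} (hU : IsAffineOpen U) :
    Set.range (emb i hU) = PrimeSpectrum.zeroLocus (((maximalIdeal A).map (cst p U) : Ideal Γ(Y, U)) : Set Γ(Y, U)) := by
  ext P
  refine Iff.trans ?_ (le_asIdeal_iff hU P).symm
  constructor
  · rintro ⟨x, rfl⟩
    rw [fromSpec_emb]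
    exact hi.le ⟨x.1, rfl⟩
  · intro h
    obtain ⟨x, hx⟩ : hU.fromSpec P ∈ Set.range i := hi.ge h
    have hxU : x ∈ i ⁻¹ᵁ U := by
      show i x ∈ U
      rw [hx]
      exact hU.range_fromSpec.le ⟨P, rfl⟩
    refine ⟨⟨x, hxU⟩, hU.fromSpec.isOpenEmbedding.injective ?_⟩
    rw [fromSpec_emb]
    exact hx

theorem emb_res {U V : Y.Opens} (hU : IsAffineOpen U) (hV : IsAffineOpen V) (h : V ≤ U)
    (h' : i ⁻¹ᵁ V ≤ i ⁻¹ᵁ U) (w : (i ⁻¹ᵁ V).toScheme) :
    emb i hU (T.homOfLE h' w) = PrimeSpectrum.comap (Y.presheaf.map (homOfLE h).op).hom (emb i hV w) := by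
  refine hU.fromSpec.isOpenEmbedding.injective ?_
  rw [fromSpec_emb]
  refine Eq.trans ?_ (congrArg (fun k : Spec Γ(Y, V) ⟶ Y => k (emb i hV w))
    (hU.map_fromSpec hV (homOfLE h).op)).symm
  rw [fromSpec_emb]
  exact congrArg i (congrArg (fun k : (i ⁻¹ᵁ V).toScheme ⟶ T => k w) (T.homOfLE_ι h'))

end Fibre

/-- A chart of the closed fibre has no higher cohomology with locally constant coefficients. -/
theorem subsingleton_H_chart {T : Scheme.{u}} (i : T ⟶ Y) [IsClosedImmersion i] {U : Y.Opens} (hU : IsAffineOpen U)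
    (hC : IdemAIC Γ(Y, U)) (M : Type) [AddCommGroup M] [Finite M] (q : ℕ) :
    Subsingleton (EtCoh.H (i ⁻¹ᵁ U).toScheme (Unr55.LC.lc (AddCommGrpCat.of (ULift.{u + 1} M))) (q + 1)) := by
  have : NeZero (Nat.card M) := ⟨Nat.card_pos.ne'⟩
  have := isClosedImmersion_emb i hU
  have := hC.subsingleton_H (emb i hU) (flc_const M) (killedBy_const M) q
  exact Cons51.subsingleton_H_of_iso (Cons51.cstIsoLc (AddCommGrpCat.of (ULift.{u + 1} M))) (q + 1)

/-- Locally constant functions on the overlap of the closed fibre are differences. -/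
theorem exists_diff_fibre [HenselianLocalRing A] (D : Data p) (h0 : IdemAIC Γ(Y, D.Y0))
    (h1 : IdemAIC Γ(Y, D.Y1)) (h01 : IdemAIC Γ(Y, D.Y0 ⊓ D.Y1)) {T : Scheme.{u}} (i : T ⟶ Y)
    [IsClosedImmersion i] (hi : Set.range i = p ⁻¹' {closedPoint A}) {M : Type (u + 1)} [AddCommGroup M] [Finite M]
    (e0 : i ⁻¹ᵁ (D.Y0 ⊓ D.Y1) ≤ i ⁻¹ᵁ D.Y0) (e1 : i ⁻¹ᵁ (D.Y0 ⊓ D.Y1) ≤ i ⁻¹ᵁ D.Y1)
    (c : LocallyConstant (i ⁻¹ᵁ (D.Y0 ⊓ D.Y1)).toScheme M) :
    ∃ (a : LocallyConstant (i ⁻¹ᵁ D.Y0).toScheme M) (b : LocallyConstant (i ⁻¹ᵁ D.Y1).toScheme M),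
      ∀ w, a (T.homOfLE e0 w) - b (T.homOfLE e1 w) = c w := by
  have := isClosedImmersion_emb i D.affine0
  have := isClosedImmersion_emb i D.affine1
  have := isClosedImmersion_emb i D.affine01
  refine exists_diff D.charts (emb i D.affine0) (emb i D.affine1) (emb i D.affine01)
    (T.homOfLE e0) (T.homOfLE e1)
    (emb i D.affine0).continuous (emb i D.affine1).continuous (emb i D.affine01).isClosedEmbedding.isEmbedding
    ?_ ?_ ?_ (fun w => emb_res i D.affine0 D.affine01 inf_le_left _ w)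
    (fun w => emb_res i D.affine1 D.affine01 inf_le_right _ w) h0 h1 h01 c
  · intro x
    rw [Data.charts_φ0_C]
    exact (range_emb i hi D.affine0).le ⟨x, rfl⟩
  · intro x
    rw [Data.charts_φ1_C]
    exact (range_emb i hi D.affine1).le ⟨x, rfl⟩
  · rw [Data.charts_const]
    exact range_emb i hi D.affine01

/-- The closed fibre of a cover of the projective line with absolutely integrally closed charts
has no higher cohomology with finite constant coefficients. -/
theorem subsingleton_H_closedFibre [HenselianLocalRing A] (D : Data p) (h0 : IdemAIC Γ(Y, D.Y0))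
    (h1 : IdemAIC Γ(Y, D.Y1)) (h01 : IdemAIC Γ(Y, D.Y0 ⊓ D.Y1)) {T : Scheme.{u}} (i : T ⟶ Y)
    [IsClosedImmersion i] (hi : Set.range i = p ⁻¹' {closedPoint A}) (M : Type) [AddCommGroup M] [Finite M]
    (q : ℕ) : Subsingleton (EtCoh.H T (EtCoh.const T M) (q + 1)) := by
  have h : Subsingleton (EtCoh.H T (Unr55.LC.lc (AddCommGrpCat.of (ULift.{u + 1} M))) (q + 1)) :=
    subsingleton_H_lc_of_cover (i ⁻¹ᵁ D.Y0) (i ⁻¹ᵁ D.Y1) _
      (top_le_iff.1 fun x _ => by
        have : i x ∈ D.Y0 ⊔ D.Y1 := D.cover ▸ trivial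
        exact this)
      (subsingleton_H_chart i D.affine0 h0 M) (subsingleton_H_chart i D.affine1 h1 M)
      (subsingleton_H_chart i D.affine01 h01 M)
      (fun c => exists_diff_fibre D h0 h1 h01 i hi (fun _ hx => hx.1) (fun _ hx => hx.2) c) q
  exact Cons51.subsingleton_H_of_iso (Cons51.cstIsoLc (AddCommGrpCat.of (ULift.{u + 1} M))).symm (q + 1)

end Groth.Agent.PBC51.P1
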